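import Cfsg.Agent.H912.Bd4
import Cfsg.Agent.LieRecognition.SzMatrix
import Cfsg.Prelude.Def_Exceptional

/-!
# `Sz(q)`: the bound `2 (q - 1)` for representations of characteristic zero with odd kernel
-/

set_option autoImplicit false

universe v

namespace Cfsg.Agent.H296.Bd

open Cfsg.Agent.LieRecognition.SzMatrix

theorem bd_sz {F : Type v} [Field F] [Fintype F] {m : ℕ} (hm : 1 ≤ m) (hF : Fintype.card F = 2 ^ (2 * m + 1)) :
    Cfsg.Agent.H912.Bd.Bd ℂ 2 (2 * (Fintype.card F - 1)) ↥(Cfsg.Lie.Sz F (2 ^ (m + 1))) := by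
  classical
  have H := good hF
  obtain ⟨c, hc⟩ : ∃ c : F, c ∉ ({0, 1} : Finset F) := by
    by_contra h
    push Not at h
    have h1 : (Finset.univ : Finset F) ⊆ {0, 1} := fun x _ => h x
    have h2 := Finset.card_le_card h1
    have h3 : ({0, 1} : Finset F).card ≤ 2 := Finset.card_le_two
    have h4 : 2 ^ 3 ≤ 2 ^ (2 * m + 1) := Nat.pow_le_pow_right (by norm_num) (by omega)
    rw [Finset.card_univ, hF] at h2
    omega
  simp only [Finset.mem_insert, Finset.mem_singleton, not_or] at hc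
  have hθc : theta hF c ≠ c := by
    intro h
    have h1 := H.sq c
    rw [h, h] at h1
    have h2 : c * (c - 1) = 0 := by linear_combination -h1
    rcases mul_eq_zero.1 h2 with h3 | h3
    · exact hc.1 h3
    · exact hc.2 (sub_eq_zero.1 h3)
  let E : Subgroup ↥(Cfsg.Lie.Sz F (2 ^ (m + 1))) :=
    { carrier := {g | ∃ b : F, g = H.u 0 b}
      mul_mem' := by
        rintro _ _ ⟨b, rfl⟩ ⟨b', rfl⟩
        exact ⟨b + b', by rw [H.u_mul]; simp⟩
      one_mem' := ⟨0, H.u_zero.symm⟩
      inv_mem' := by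
        rintro _ ⟨b, rfl⟩
        exact ⟨b, by rw [H.u_inv]; simp⟩ }
  have hEm : ∀ b, H.u 0 b ∈ E := fun b => ⟨b, rfl⟩
  have hz : ∀ (x y b : F), H.u x y * H.u 0 b = H.u 0 b * H.u x y := by
    intro x y b
    rw [H.u_mul, H.u_mul]
    simp [add_comm]
  have hab : H.u 1 0 * H.u c 0 * (H.u 1 0)⁻¹ * (H.u c 0)⁻¹ = H.u 0 (theta hF c + c) := by
    rw [mul_inv_eq_iff_eq_mul, mul_inv_eq_iff_eq_mul, mul_assoc (H.u 0 _), H.u_mul, H.u_mul, H.u_mul, add_comm 1 c]
    have h1 : c + c = 0 := H.add_self c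
    congr 1
    · ring
    · simp only [map_one, zero_mul, add_zero, zero_add, one_mul, mul_one]
      linear_combination -h1
  have hdu : ∀ (k : Fˣ) (b : F), H.d k * H.u 0 b * (H.d k)⁻¹ = H.u 0 (b * theta hF k) := by
    intro k b
    rw [H.d_mul_u, mul_inv_cancel_right, zero_mul, zero_mul]
  have key := Cfsg.Agent.H912.Bd.bd_of_free_ext (F := ℂ) (r := 2) Nat.prime_two (by norm_num) E
    (by rintro _ ⟨b, rfl⟩ _ ⟨b', rfl⟩; exact hz _ _ _)
    (by
      rintro ⟨_, ⟨b, rfl⟩⟩
      refine ⟨1, Subtype.ext ?_⟩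
      show H.u 0 b ^ 2 ^ 1 = 1
      rw [pow_one, pow_two, H.u_mul, H.add_self, H.add_self]
      simpa using H.u_zero)
    (Finset.univ.image fun k : Fˣ => H.d k)
    (by
      intro s hs e he
      obtain ⟨k, -, rfl⟩ := Finset.mem_image.1 hs
      obtain ⟨b, rfl⟩ := he
      rw [hdu]
      exact hEm _)
    (by
      intro s hs t ht hst e he h
      obtain ⟨k, -, rfl⟩ := Finset.mem_image.1 hs
      obtain ⟨l, -, rfl⟩ := Finset.mem_image.1 ht
      obtain ⟨b, rfl⟩ := he
      rw [hdu, hdu] at h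
      have h1 := (H.u_inj h).2
      have h2 : b = 0 := by
        by_contra hb
        exact hst (by rw [Units.ext ((theta hF).injective (mul_left_cancel₀ hb h1))])
      rw [h2, H.u_zero])
    (a := H.u 1 0) (b := H.u c 0)
    (by rintro _ ⟨b, rfl⟩; exact hz _ _ _) (by rintro _ ⟨b, rfl⟩; exact hz _ _ _) (k := 2)
    (by
      have h1 : H.u 1 0 ^ 2 = H.u 0 1 := by
        rw [pow_two, H.u_mul, H.add_self]
        simp
      have h2 : (2 : ℕ) ^ 2 = 2 * 2 := by norm_num
      rw [h2, pow_mul, h1, pow_two, H.u_mul, H.add_self, H.add_self]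
      simpa using H.u_zero)
    (by rw [hab]; exact hEm _)
    (by
      rw [hab]
      intro h
      rw [← H.u_zero] at h
      have h1 := (H.u_inj h).2
      exact hθc (by
        have h2 : c + c = 0 := H.add_self c
        linear_combination h1 - h2))
    (by
      rw [hab, pow_two, H.u_mul, H.add_self, H.add_self]
      simpa using H.u_zero)
  have hcard : (Finset.univ.image fun k : Fˣ => H.d k).card = Fintype.card F - 1 := by
    rw [Finset.card_image_of_injective _ fun k l h => H.d_inj h, Finset.card_univ, Fintype.card_units]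
  rw [hcard, mul_comm] at key
  exact key

end Cfsg.Agent.H296.Bd
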